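import Mathlib
import Groth.Agent.Lib.GeomReg.FiniteGRing

/-!
# A finite module is the limit of its base changes to flat complete local algebras
-/

set_option autoImplicit false
set_option linter.style.haveILetI false
universe u

open TensorProduct IsLocalRing

namespace GrothLib.CplLim

variable {A : Type u} [CommRing A] [IsNoetherianRing A]

/-- the completed local ring -/
abbrev Cpl (A : Type u) [CommRing A] (p : Ideal A) [p.IsPrime] : Type u :=
  AdicCompletion (maximalIdeal (Localization.AtPrime p)) (Localization.AtPrime p)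

instance flat_cpl (p : Ideal A) [p.IsPrime] : Module.Flat A (Cpl A p) :=
  haveI : IsNoetherianRing (Localization.AtPrime p) := IsLocalization.isNoetherianRing p.primeCompl _ inferInstance
  Module.Flat.trans A (Localization.AtPrime p) _

instance noeth_loc (p : Ideal A) [p.IsPrime] : IsNoetherianRing (Localization.AtPrime p) :=
  IsLocalization.isNoetherianRing p.primeCompl _ inferInstance

instance ff_cpl (p : Ideal A) [p.IsPrime] : Module.FaithfullyFlat (Localization.AtPrime p) (Cpl A p) :=
  haveI : Module.Flat (Localization.AtPrime p) (Cpl A p) := inferInstance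
  Module.FaithfullyFlat.of_flat_of_isLocalHom

theorem eq_zero_of_forall {M : Type u} [AddCommGroup M] [Module A M] (m : M)
    (h : ∀ (p : Ideal A) [p.IsMaximal], (1 : Cpl A p) ⊗ₜ[A] m = 0) : m = 0 := by
  by_contra hm
  obtain ⟨p, hp, hle⟩ := Ideal.exists_le_maximal (LinearMap.ker (LinearMap.toSpanSingleton A M m))
    (fun h' => hm (by
      have : (1 : A) ∈ LinearMap.ker (LinearMap.toSpanSingleton A M m) := by rw [h']; trivial
      simpa using this))
  haveI := hp
  let Ap := Localization.AtPrime p
  have h1 : (1 : Ap) ⊗ₜ[A] m = 0 := by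
    refine Module.FaithfullyFlat.tensorProduct_mk_injective (A := Ap) (B := Cpl A p) (M := Ap ⊗[A] M) ?_
    rw [map_zero]
    refine (AlgebraTensorModule.cancelBaseChange A Ap (Cpl A p) (Cpl A p) M).injective ?_
    show AlgebraTensorModule.cancelBaseChange A Ap (Cpl A p) (Cpl A p) M ((1 : Cpl A p) ⊗ₜ[Ap] ((1 : Ap) ⊗ₜ[A] m)) = _
    rw [AlgebraTensorModule.cancelBaseChange_tmul, one_smul, map_zero]
    exact h p
  have h2 : LocalizedModule.mkLinearMap p.primeCompl M m = 0 := by
    have := (LocalizedModule.equivTensorProduct p.primeCompl M).symm.congr_arg h1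
    rwa [map_zero, LocalizedModule.equivTensorProduct_symm_apply_tmul_one] at this
  obtain ⟨t, ht⟩ := (IsLocalizedModule.eq_zero_iff p.primeCompl (LocalizedModule.mkLinearMap p.primeCompl M)).1 h2
  exact t.2 (hle (show (t : A) • m = 0 from ht))

/-- compatible families -/
abbrev Fam (A : Type u) [CommRing A] (M : Type u) [AddCommGroup M] [Module A M] : Type (u + 1) :=
  ∀ (B : Type u) [CommRing B] [Algebra A B] [IsNoetherianRing B] [IsLocalRing B],
    IsAdicComplete (IsLocalRing.maximalIdeal B) B → Module.Flat A B → TensorProduct A B M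

/-- compatibility -/
def Compat {A : Type u} [CommRing A] {M : Type u} [AddCommGroup M] [Module A M] (x : Fam A M) : Prop :=
  ∀ (B : Type u) [CommRing B] [Algebra A B] [IsNoetherianRing B] [IsLocalRing B]
    (hB : IsAdicComplete (IsLocalRing.maximalIdeal B) B) (hBf : Module.Flat A B) (B' : Type u) [CommRing B']
    [Algebra A B'] [IsNoetherianRing B'] [IsLocalRing B']
    (hB' : IsAdicComplete (IsLocalRing.maximalIdeal B') B') (hB'f : Module.Flat A B') (g : B →ₐ[A] B'),
    LinearMap.rTensor M g.toLinearMap (x B hB hBf) = x B' hB' hB'f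

/-- existence -/
def Ex (A : Type u) [CommRing A] (M : Type u) [AddCommGroup M] [Module A M] : Prop :=
  ∀ x : Fam A M, Compat x → ∃ m : M, ∀ (B : Type u) [CommRing B] [Algebra A B] [IsNoetherianRing B]
    [IsLocalRing B] (hB : IsAdicComplete (IsLocalRing.maximalIdeal B) B) (hBf : Module.Flat A B),
    x B hB hBf = (1 : B) ⊗ₜ[A] m

theorem ex_quotient (p : Ideal A) [hp : p.IsPrime] : Ex A (A ⧸ p) := by
  classical
  intro x hx
  let θ : ∀ (B : Type u) [CommRing B] [Algebra A B], (B ⧸ p.map (algebraMap A B)) ≃ₐ[B] B ⊗[A] (A ⧸ p) :=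
    fun B _ _ => Algebra.TensorProduct.quotIdealMapEquivTensorQuot B p
  have hθ : ∀ (B : Type u) [CommRing B] [Algebra A B] (b : B), θ B (Ideal.Quotient.mk _ b) = b ⊗ₜ[A] (1 : A ⧸ p) :=
    fun B _ _ b => rfl
  have hmem : ∀ (B : Type u) [CommRing B] [Algebra A B] (b : B),
      b ⊗ₜ[A] (1 : A ⧸ p) = 0 ↔ b ∈ p.map (algebraMap A B) := fun B _ _ b => by
    rw [← hθ, map_eq_zero_iff _ (θ B).injective, Ideal.Quotient.eq_zero_iff_mem]
  have hrep : ∀ (B : Type u) [CommRing B] [Algebra A B] (z : B ⊗[A] (A ⧸ p)), ∃ b : B, z = b ⊗ₜ[A] (1 : A ⧸ p) :=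
    fun B _ _ z => by
    obtain ⟨w, rfl⟩ := (θ B).surjective z
    obtain ⟨b, rfl⟩ := Ideal.Quotient.mk_surjective w
    exact ⟨b, hθ B b⟩
  let Ap := Localization.AtPrime p
  let C₀ := Cpl A p
  have hC₀ : IsAdicComplete (maximalIdeal C₀) C₀ := inferInstance
  obtain ⟨r, hr⟩ := hrep C₀ (x C₀ hC₀ inferInstance)
  obtain ⟨c, hc⟩ := (AdicCompletion.residueField_map_bijective Ap).2 (residue C₀ r)
  obtain ⟨c, rfl⟩ := residue_surjective c
  rw [ResidueField.map_residue] at hc
  have hc' : r - algebraMap Ap C₀ c ∈ p.map (algebraMap A C₀) := by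
    rw [IsScalarTower.algebraMap_eq A Ap C₀, ← Ideal.map_map, Localization.AtPrime.map_eq_maximalIdeal,
      ← AdicCompletion.maximalIdeal_eq_map]
    exact Ideal.Quotient.eq.1 hc.symm
  obtain ⟨⟨a, s⟩, hcs⟩ := IsLocalization.surj p.primeCompl c
  have h0 : algebraMap A C₀ s * r - algebraMap A C₀ a ∈ p.map (algebraMap A C₀) := by
    have := Ideal.mul_mem_left _ (algebraMap A C₀ s) hc'
    rwa [mul_sub, IsScalarTower.algebraMap_apply A Ap C₀ s, ← map_mul (algebraMap Ap C₀), mul_comm _ c, hcs,
      ← IsScalarTower.algebraMap_apply, ← IsScalarTower.algebraMap_apply A Ap C₀] at this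
  have hall : ∀ (B : Type u) [CommRing B] [Algebra A B] [IsNoetherianRing B] [IsLocalRing B]
      (hB : IsAdicComplete (maximalIdeal B) B) (hBf : Module.Flat A B) (b : B),
      x B hB hBf = b ⊗ₜ[A] (1 : A ⧸ p) → algebraMap A B s * b - algebraMap A B a ∈ p.map (algebraMap A B) := by
    intro B _ _ _ _ hB hBf b hb
    by_contra hz
    let ζ := Ideal.Quotient.mk (p.map (algebraMap A B)) (algebraMap A B s * b - algebraMap A B a)
    have hζ : ζ ≠ 0 := fun h => hz (Ideal.Quotient.eq_zero_iff_mem.1 h)
    obtain ⟨P, hP, hle⟩ := exists_le_isAssociatedPrime_of_isNoetherianRing B ζ hζ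
    haveI := hP.isPrime
    have hPp : P.comap (algebraMap A B) = p := by
      refine le_antisymm (fun r hr => ?_) (Ideal.map_le_iff_le_comap.1 ?_)
      · by_contra hrp
        obtain ⟨-, w, hw⟩ := isAssociatedPrime_iff.1 hP
        have hrw : algebraMap A B r • w = 0 := by
          have : algebraMap A B r ∈ P := hr
          rw [hw] at this
          exact (Submodule.mem_bot B).1 (Submodule.mem_colon_singleton.1 this)
        have hinj : Function.Injective (LinearMap.lsmul A (A ⧸ p) r) := (injective_iff_map_eq_zero _).2 fun v hv => by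
          obtain ⟨v, rfl⟩ := Ideal.Quotient.mk_surjective v
          have : Ideal.Quotient.mk p (r * v) = 0 := hv
          exact Ideal.Quotient.eq_zero_iff_mem.2
            ((hp.mem_or_mem (Ideal.Quotient.eq_zero_iff_mem.1 this)).resolve_left hrp)
        have hw0 : w = 0 := by
          obtain ⟨w, rfl⟩ := Ideal.Quotient.mk_surjective w
          have h' : (LinearMap.lsmul A (A ⧸ p) r).lTensor B (w ⊗ₜ[A] (1 : A ⧸ p)) = 0 := by
            rw [LinearMap.lTensor_tmul, LinearMap.lsmul_apply, TensorProduct.tmul_smul, TensorProduct.smul_tmul',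
              hmem, Algebra.smul_def]
            exact Ideal.Quotient.eq_zero_iff_mem.1 hrw
          have := Module.Flat.lTensor_preserves_injective_linearMap (M := B) _ hinj (h'.trans (map_zero _).symm)
          exact Ideal.Quotient.eq_zero_iff_mem.2 ((hmem B w).1 this)
        refine ‹P.IsPrime›.ne_top ((Ideal.eq_top_iff_one P).2 ?_)
        rw [hw, Submodule.mem_colon_singleton, hw0, smul_zero]
        exact zero_mem _
      · refine le_trans (fun y hy => ?_) hP.annihilator_le
        exact Submodule.mem_annihilator.2 fun v _ => by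
          obtain ⟨v, rfl⟩ := Ideal.Quotient.mk_surjective v
          show Ideal.Quotient.mk _ (y * v) = 0
          exact Ideal.Quotient.eq_zero_iff_mem.2 (Ideal.mul_mem_right _ _ hy)
    let BP := Localization.AtPrime P
    let B' := Cpl B P
    haveI : Module.Flat A B' := Module.Flat.trans A B B'
    have hB' : IsAdicComplete (maximalIdeal B') B' := inferInstance
    let φ : Ap →+* BP := Localization.localRingHom p P (algebraMap A B) hPp.symm
    letI : Algebra Ap BP := φ.toAlgebra
    haveI : IsLocalHom (algebraMap Ap BP) := Localization.isLocalHom_localRingHom p P (algebraMap A B) hPp.symm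
    obtain ⟨ψ, hψ⟩ := GrothLib.GeomReg.exists_completion_map Ap BP
    let g₀ : C₀ →ₐ[A] B' :=
      { ψ with
        commutes' := fun t => by
          show ψ (algebraMap A C₀ t) = algebraMap A B' t
          rw [IsScalarTower.algebraMap_apply A Ap C₀]
          refine (RingHom.congr_fun hψ (algebraMap A Ap t)).trans ?_
          show algebraMap BP B' (φ (algebraMap A Ap t)) = _
          rw [Localization.localRingHom_to_map, ← IsScalarTower.algebraMap_apply B BP B',
            ← IsScalarTower.algebraMap_apply A B B'] }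
    let g : B →ₐ[A] B' := IsScalarTower.toAlgHom A B B'
    have e1 := hx C₀ hC₀ inferInstance B' hB' inferInstance g₀
    have e2 := hx B hB hBf B' hB' inferInstance g
    rw [hr, LinearMap.rTensor_tmul] at e1
    rw [hb, LinearMap.rTensor_tmul, ← e1] at e2
    have h3 : algebraMap B B' b - g₀ r ∈ p.map (algebraMap A B') := by
      rw [← hmem, TensorProduct.sub_tmul, sub_eq_zero]
      exact e2
    have h4 : g₀ (algebraMap A C₀ s * r - algebraMap A C₀ a) ∈ p.map (algebraMap A B') := by
      have := Ideal.mem_map_of_mem g₀.toRingHom h0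
      rwa [Ideal.map_map, show g₀.toRingHom.comp (algebraMap A C₀) = algebraMap A B' from RingHom.ext g₀.commutes] at this
    rw [map_sub, map_mul, AlgHom.commutes, AlgHom.commutes] at h4
    have h5 : algebraMap B B' (algebraMap A B s * b - algebraMap A B a) ∈ p.map (algebraMap A B') := by
      have := add_mem (Ideal.mul_mem_left _ (algebraMap A B' s) h3) h4
      rw [map_sub, map_mul, ← IsScalarTower.algebraMap_apply, ← IsScalarTower.algebraMap_apply]
      convert this using 1
      ring
    have h6 : algebraMap B BP (algebraMap A B s * b - algebraMap A B a) ∈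
        (p.map (algebraMap A B)).map (algebraMap B BP) := by
      rw [← Ideal.comap_map_eq_self_of_faithfullyFlat (B := B') ((p.map (algebraMap A B)).map (algebraMap B BP)),
        Ideal.mem_comap, Ideal.map_map, ← IsScalarTower.algebraMap_eq B BP B', Ideal.map_map,
        ← IsScalarTower.algebraMap_eq A B B', ← IsScalarTower.algebraMap_apply]
      exact h5
    obtain ⟨t, ht, htm⟩ := (IsLocalization.algebraMap_mem_map_algebraMap_iff P.primeCompl BP _ _).1 h6
    refine ht (hle ?_)
    rw [Submodule.mem_colon_singleton, Submodule.mem_bot]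
    show Ideal.Quotient.mk _ (t * _) = 0
    exact Ideal.Quotient.eq_zero_iff_mem.2 htm
  have hK : a ∈ Ideal.span {(s : A)} ⊔ p := by
    by_contra hne
    obtain ⟨m, hm, hle⟩ := Ideal.exists_le_maximal ((Ideal.span {(s : A)} ⊔ p).colon {a}) (fun h => hne (by
      have : (1 : A) ∈ (Ideal.span {(s : A)} ⊔ p).colon {a} := by rw [h]; trivial
      simpa [Submodule.mem_colon_singleton] using this))
    haveI := hm
    let Am := Localization.AtPrime m
    let Cm := Cpl A m
    obtain ⟨b, hb⟩ := hrep Cm (x Cm inferInstance inferInstance)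
    have h1 := hall Cm inferInstance inferInstance b hb
    have h2 : algebraMap A Cm a ∈ (Ideal.span {(s : A)} ⊔ p).map (algebraMap A Cm) := by
      have h2a : algebraMap A Cm s * b ∈ (Ideal.span {(s : A)} ⊔ p).map (algebraMap A Cm) :=
        Ideal.mul_mem_right _ _ (Ideal.mem_map_of_mem _ (Ideal.mem_sup_left (Ideal.mem_span_singleton_self _)))
      have := sub_mem h2a (Ideal.map_mono le_sup_right h1)
      rwa [sub_sub_cancel] at this
    have h3 : algebraMap A Am a ∈ (Ideal.span {(s : A)} ⊔ p).map (algebraMap A Am) := by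
      rw [← Ideal.comap_map_eq_self_of_faithfullyFlat (B := Cm) ((Ideal.span {(s : A)} ⊔ p).map (algebraMap A Am)),
        Ideal.mem_comap, Ideal.map_map, ← IsScalarTower.algebraMap_eq A Am Cm, ← IsScalarTower.algebraMap_apply]
      exact h2
    obtain ⟨t, ht, htm⟩ := (IsLocalization.algebraMap_mem_map_algebraMap_iff m.primeCompl Am _ _).1 h3
    exact ht (hle (Submodule.mem_colon_singleton.2 htm))
  obtain ⟨_, hs', q, hq, hsq⟩ := Submodule.mem_sup.1 hK
  obtain ⟨β, rfl⟩ := Ideal.mem_span_singleton'.1 hs'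
  refine ⟨Ideal.Quotient.mk p β, fun B _ _ _ _ hB hBf => ?_⟩
  obtain ⟨b, hb⟩ := hrep B (x B hB hBf)
  rw [hb, show Ideal.Quotient.mk p β = β • (1 : A ⧸ p) by rw [Algebra.smul_def, mul_one]; rfl,
    TensorProduct.tmul_smul, TensorProduct.smul_tmul', ← sub_eq_zero, ← TensorProduct.sub_tmul]
  have h1 := hall B hB hBf b hb
  have h2 : algebraMap A B s * (b - β • (1 : B)) ∈ p.map (algebraMap A B) := by
    have := add_mem h1 (Ideal.mem_map_of_mem (algebraMap A B) hq)
    rw [← hsq, map_add, map_mul] at this
    rw [Algebra.smul_def, mul_one]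
    convert this using 1
    ring
  have hinj : Function.Injective (LinearMap.lsmul A (A ⧸ p) (s : A)) := (injective_iff_map_eq_zero _).2 fun v hv => by
    obtain ⟨v, rfl⟩ := Ideal.Quotient.mk_surjective v
    have : Ideal.Quotient.mk p ((s : A) * v) = 0 := hv
    exact Ideal.Quotient.eq_zero_iff_mem.2
      ((hp.mem_or_mem (Ideal.Quotient.eq_zero_iff_mem.1 this)).resolve_left s.2)
  refine Module.Flat.lTensor_preserves_injective_linearMap (M := B) _ hinj ?_
  rw [map_zero, LinearMap.lTensor_tmul, LinearMap.lsmul_apply, TensorProduct.tmul_smul, TensorProduct.smul_tmul',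
    hmem, Algebra.smul_def]
  exact h2

theorem ex_of_finite (M : Type u) [AddCommGroup M] [Module A M] [hM : Module.Finite A M] : Ex A M := by
  refine IsNoetherianRing.induction_on_isQuotientEquivQuotientPrime (A := A) hM
    (motive := fun N _ _ _ => Ex A N) (fun N _ _ _ _ x _ => ⟨0, fun B _ _ _ _ _ _ => Subsingleton.elim _ _⟩)
    ?_ ?_
  · intro N _ _ _ p e x hx
    obtain ⟨m, hm⟩ := ex_quotient p.1 (fun B _ _ _ _ hB hBf => e.toLinearMap.lTensor B (x B hB hBf))
      (fun B _ _ _ _ hB hBf B' _ _ _ _ hB' hB'f g => by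
        beta_reduce
        rw [← hx B hB hBf B' hB' hB'f g, ← LinearMap.comp_apply, ← LinearMap.comp_apply,
          LinearMap.rTensor_comp_lTensor, LinearMap.lTensor_comp_rTensor])
    refine ⟨e.symm m, fun B _ _ _ _ hB hBf => ?_⟩
    have := congrArg (e.symm.toLinearMap.lTensor B) (hm B hB hBf)
    rw [← LinearMap.comp_apply, ← LinearMap.lTensor_comp, LinearEquiv.symm_comp, LinearMap.lTensor_id,
      LinearMap.id_apply, LinearMap.lTensor_tmul] at this
    exact this
  · intro N₁ _ _ _ N₂ _ _ _ N₃ _ _ _ f g hf hg hfg h₁ h₃ x hx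
    obtain ⟨m₃, hm₃⟩ := h₃ (fun B _ _ _ _ hB hBf => g.lTensor B (x B hB hBf))
      (fun B _ _ _ _ hB hBf B' _ _ _ _ hB' hB'f φ => by
        beta_reduce
        rw [← hx B hB hBf B' hB' hB'f φ, ← LinearMap.comp_apply, ← LinearMap.comp_apply,
          LinearMap.rTensor_comp_lTensor, LinearMap.lTensor_comp_rTensor])
    obtain ⟨m₂, rfl⟩ := hg m₃
    have hex : ∀ (B : Type u) [CommRing B] [Algebra A B] [IsNoetherianRing B] [IsLocalRing B]
        (hB : IsAdicComplete (maximalIdeal B) B) (hBf : Module.Flat A B),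
        ∃ y : B ⊗[A] N₁, f.lTensor B y = x B hB hBf - (1 : B) ⊗ₜ[A] m₂ := fun B _ _ _ _ hB hBf =>
      (lTensor_exact B hfg hg _).1 (by rw [map_sub, hm₃ B hB hBf, LinearMap.lTensor_tmul, sub_self])
    choose y hy using hex
    obtain ⟨m₁, hm₁⟩ := h₁ y (fun B _ _ _ _ hB hBf B' _ _ _ _ hB' hB'f φ => by
      refine Module.Flat.lTensor_preserves_injective_linearMap (M := B') f hf ?_
      rw [hy, ← LinearMap.comp_apply, LinearMap.lTensor_comp_rTensor, ← LinearMap.rTensor_comp_lTensor,
        LinearMap.comp_apply, hy, map_sub, hx B hB hBf B' hB' hB'f φ, LinearMap.rTensor_tmul,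
        AlgHom.toLinearMap_apply, map_one])
    refine ⟨f m₁ + m₂, fun B _ _ _ _ hB hBf => ?_⟩
    rw [TensorProduct.tmul_add, ← LinearMap.lTensor_tmul, ← hm₁ B hB hBf, hy, sub_add_cancel]

end GrothLib.CplLim
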